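/-
Brown representability for categories with small coproducts, small hom sets and a small perfect family,
in a bigger universe of homs (the setting of `DerivedCategory` with the standard localization).
After `Groth.Agent.DHA.Brown.{Tower,Representable}`.
-/
import Groth.Prelude.Def_DerLim
import Groth.Agent.DHA.Brown.Basic
import Mathlib.CategoryTheory.Triangulated.Yoneda
import Mathlib.CategoryTheory.Triangulated.Opposite.Functor
import Mathlib.CategoryTheory.Preadditive.Yoneda.Limits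
import Mathlib.CategoryTheory.Adjunction.PartialAdjoint
import Mathlib.CategoryTheory.Limits.Preserves.Opposites
import Mathlib.CategoryTheory.EssentiallySmall

set_option linter.unusedSectionVars false

universe w u u'

open CategoryTheory CategoryTheory.Limits Pretriangulated Opposite
open CategoryTheory.Pretriangulated.Opposite
open Groth.Agent.DHA.Brown

namespace Groth.Agent.QCohD.Brown

variable {D : Type u} [Category.{w + 1} D] [Preadditive D] [HasZeroObject D] [HasShift D ℤ]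
  [∀ n : ℤ, (shiftFunctor D n).Additive] [Pretriangulated D] [HasCoproducts.{w} D]
  [HasColimitsOfShape (Discrete ℕ) D] [LocallySmall.{w} D]

instance (priority := low) hasColimitsOfShape_small (J : Type (w + 1)) [Small.{w} J] :
    HasColimitsOfShape (Discrete J) D :=
  hasColimitsOfShape_of_equivalence (Discrete.equivalence (equivShrink.{w} J)).symm

/-- preservation of products indexed by small types -/
class SmallProducts (H : Dᵒᵖ ⥤ AddCommGrpCat.{w + 1}) : Prop where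
  preserves : ∀ (J : Type (w + 1)) [Small.{w} J], PreservesLimitsOfShape (Discrete J) H

variable (H : Dᵒᵖ ⥤ AddCommGrpCat.{w + 1}) [H.IsHomological] [SmallProducts H]

instance preservesLimitsOfShape_small (J : Type (w + 1)) [Small.{w} J] :
    PreservesLimitsOfShape (Discrete J) H :=
  SmallProducts.preserves J

instance preservesLimitsOfShape_nat : PreservesLimitsOfShape (Discrete ℕ) H :=
  preservesLimitsOfShape_of_equiv (Discrete.equivalence Equiv.ulift.{w + 1}) H

variable {κ : Type (w + 1)} [Small.{w} κ] (P : κ → D)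

/-- an object with an element -/
structure Stage where
  obj : D
  el : H.obj (op obj)

variable {H}

/-- index of the maps to kill -/
abbrev Kill (S : Stage H) : Type (w + 1) := Σ k : κ, {φ : P k ⟶ S.obj // ev H φ S.el = 0}

/-- the map killing everything -/
noncomputable def killMap (S : Stage H) :
    (∐ fun q : Kill P S => P q.1) ⟶ S.obj := Sigma.desc fun q => q.2.1

lemma exists_next (S : Stage H) :
    ∃ (S' : Stage H) (f : S.obj ⟶ S'.obj)
      (h : S'.obj ⟶ (∐ fun q : Kill P S => P q.1)⟦(1 : ℤ)⟧),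
      Triangle.mk (killMap P S) f h ∈ distTriang D ∧ ev H f S'.el = S.el := by
  obtain ⟨Z, f, h, hT⟩ := distinguished_cocone_triangle (killMap P S)
  obtain ⟨z, hz⟩ := exists_ev H hT S.el (ev_hom_ext H fun q => by
    rw [← ev_comp]; simp only [killMap]; rw [Sigma.ι_desc, q.2.2, ev_map_zero])
  exact ⟨⟨Z, z⟩, f, h, hT, hz⟩

/-- the next stage -/
noncomputable def next (S : Stage H) : Stage H := (exists_next P S).choose

/-- the map to the next stage -/
noncomputable def nextMap (S : Stage H) : S.obj ⟶ (next P S).obj :=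
  (exists_next P S).choose_spec.choose

lemma nextMap_triangle (S : Stage H) :
    ∃ h, Triangle.mk (killMap P S) (nextMap P S) h ∈ distTriang D :=
  ⟨_, (exists_next P S).choose_spec.choose_spec.choose_spec.1⟩

lemma ev_nextMap (S : Stage H) : ev H (nextMap P S) (next P S).el = S.el :=
  (exists_next P S).choose_spec.choose_spec.choose_spec.2

lemma comp_nextMap (S : Stage H) (k : κ) (φ : P k ⟶ S.obj) (hφ : ev H φ S.el = 0) :
    φ ≫ nextMap P S = 0 := by
  obtain ⟨h, hT⟩ := nextMap_triangle P S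
  have h0 := comp_distTriang_mor_zero₁₂ _ hT
  change killMap P S ≫ nextMap P S = 0 at h0
  have := Sigma.ι (fun q : Kill P S => P q.1) ⟨k, φ, hφ⟩ ≫= h0
  rwa [comp_zero, killMap, Sigma.ι_desc_assoc] at this

variable (S₀ : Stage H)

/-- the tower -/
noncomputable def stage : ℕ → Stage H
  | 0 => S₀
  | n + 1 => next P (stage n)

/-- objects of the tower -/
noncomputable abbrev K (n : ℕ) : D := (stage P S₀ n).obj

/-- elements of the tower -/
noncomputable abbrev x (n : ℕ) : H.obj (op (K P S₀ n)) := (stage P S₀ n).el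

/-- transition maps -/
noncomputable def f (n : ℕ) : K P S₀ n ⟶ K P S₀ (n + 1) := nextMap P (stage P S₀ n)

lemma ev_f (n : ℕ) : ev H (f P S₀ n) (x P S₀ (n + 1)) = x P S₀ n :=
  ev_nextMap P (stage P S₀ n)

lemma comp_f {n : ℕ} {k : κ} (φ : P k ⟶ K P S₀ n) (hφ : ev H φ (x P S₀ n) = 0) :
    φ ≫ f P S₀ n = 0 :=
  comp_nextMap P _ k φ hφ

/-- composite transition maps from the start -/
noncomputable def ι₀ : ∀ n, K P S₀ 0 ⟶ K P S₀ n
  | 0 => 𝟙 _
  | n + 1 => ι₀ n ≫ f P S₀ n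

lemma ev_ι₀ : ∀ n, ev H (ι₀ P S₀ n) (x P S₀ n) = x P S₀ 0
  | 0 => ev_id H _
  | n + 1 => by rw [ι₀, ev_comp, ev_f, ev_ι₀ n]

lemma comp_ι₀_succ {k : κ} (u : P k ⟶ K P S₀ 0) (hu : ev H u (x P S₀ 0) = 0) (n : ℕ) :
    u ≫ ι₀ P S₀ (n + 1) = 0 := by
  rw [ι₀, ← Category.assoc]
  exact comp_f P S₀ _ (by rw [ev_comp, ev_ι₀, hu])

/-- the hypothesis on the seed -/
def Covers : Prop := ∀ (k : κ) (e : H.obj (op (P k))), ∃ s : P k ⟶ S₀.obj, ev H s S₀.el = e

/-- the map from copies of the seed into the tower -/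
noncomputable def g : (∐ fun _ : ℕ => K P S₀ 0) ⟶ ∐ K P S₀ :=
  Sigma.desc fun n => ι₀ P S₀ (n + 1) ≫ Sigma.ι (K P S₀) (n + 1)

/-- shift of the copies -/
noncomputable def t : (∐ fun _ : ℕ => K P S₀ 0) ⟶ ∐ fun _ : ℕ => K P S₀ 0 :=
  Sigma.desc fun n => Sigma.ι (fun _ : ℕ => K P S₀ 0) (n + 1)

lemma g_shiftMap : g P S₀ ≫ DerLim.shiftMap (K P S₀) (f P S₀) = t P S₀ ≫ g P S₀ :=
  Sigma.hom_ext _ _ fun n => by
    simp only [g, t, DerLim.shiftMap, Sigma.ι_desc_assoc, Sigma.ι_desc, Category.assoc]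
    simp only [ι₀, Category.assoc]

variable {P} {S₀}

lemma exists_comp_shiftMap (hP : IsPerfect P) (hS : Covers P S₀) (k : κ)
    (α : P k ⟶ ∐ K P S₀) :
    ∃ a : P k ⟶ ∐ fun _ : ℕ => K P S₀ 0,
      α ≫ DerLim.shiftMap (K P S₀) (f P S₀) = a ≫ g P S₀ := by
  obtain ⟨j, β, γ, hα⟩ := hP.factor _ k α
  choose s hs using fun n => hS (j n) (ev H (β n) (x P S₀ n))
  let s' : ∀ n, P (j n) ⟶ K P S₀ 0 := s
  refine ⟨γ ≫ Limits.Sigma.map s', ?_⟩
  rw [hα, Category.assoc, Category.assoc]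
  congr 1
  refine Sigma.hom_ext _ _ fun n => ?_
  simp only [g, DerLim.shiftMap, Sigma.ι_map_assoc, Sigma.ι_desc]
  rw [← sub_eq_zero, ι₀]
  have h0 : (β n - s' n ≫ ι₀ P S₀ n) ≫ f P S₀ n = 0 := comp_f P S₀ _ (by
    rw [ev_sub, ev_comp, ev_ι₀]
    exact sub_eq_zero.2 (hs n).symm)
  rw [Preadditive.sub_comp] at h0
  simp only [← Category.assoc, ← Preadditive.sub_comp]
  simp only [Category.assoc] at h0 ⊢
  simp [reassoc_of% (sub_eq_zero.1 h0)]

/-- `1 - shift` is injective on maps from the perfect family -/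
lemma eq_zero_of_comp_sub (hP : IsPerfect P) (hS : Covers P S₀) (k : κ) (α : P k ⟶ ∐ K P S₀)
    (hα : α ≫ (𝟙 _ - DerLim.shiftMap (K P S₀) (f P S₀)) = 0) : α = 0 := by
  set sh := DerLim.shiftMap (K P S₀) (f P S₀) with hsh
  rw [Preadditive.comp_sub, Category.comp_id, sub_eq_zero] at hα
  obtain ⟨a, ha⟩ := exists_comp_shiftMap hP hS k α
  rw [← hsh] at ha
  set b := a ≫ (𝟙 _ - t P S₀) with hb
  have hbg : b ≫ g P S₀ = 0 := by
    rw [hb, Category.assoc, Preadditive.sub_comp, Category.id_comp, Preadditive.comp_sub,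
      ← g_shiftMap, ← hsh, ← Category.assoc, ← ha, ← hα, ← hα, sub_self]
  -- factor `g`
  let sh' : (∐ fun n => K P S₀ (n + 1)) ⟶ ∐ K P S₀ :=
    Sigma.desc fun n => Sigma.ι (K P S₀) (n + 1)
  let ret : ∐ K P S₀ ⟶ ∐ fun n => K P S₀ (n + 1) :=
    Sigma.desc fun n => match n with
      | 0 => 0
      | n + 1 => Sigma.ι (fun n => K P S₀ (n + 1)) n
  have hret : g P S₀ ≫ ret = Limits.Sigma.map (fun n => ι₀ P S₀ (n + 1)) :=
    Sigma.hom_ext _ _ fun n => by
      rw [g, Sigma.ι_desc_assoc, Category.assoc, Sigma.ι_map, Sigma.ι_desc]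
  have hbm : b ≫ Limits.Sigma.map (fun n => ι₀ P S₀ (n + 1)) = 0 := by
    rw [← hret, ← Category.assoc, hbg, zero_comp]
  choose Z z w hT using fun n => distinguished_cocone_triangle₁ (ι₀ P S₀ (n + 1))
  obtain ⟨c, hc⟩ : ∃ c : P k ⟶ ∐ Z, b = c ≫ Limits.Sigma.map z :=
    Triangle.coyoneda_exact₂ _ (coproductTriangle_distinguished
      (fun n => Triangle.mk (z n) (ι₀ P S₀ (n + 1)) (w n)) hT) b hbm
  obtain ⟨j, β, γ, hγ⟩ := hP.factor Z k c
  let r : (∐ fun _ : ℕ => K P S₀ 0) ⟶ ∐ fun _ : ℕ => K P S₀ 0 :=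
    Sigma.desc fun n => -∑ m ∈ Finset.range n, Sigma.ι (fun _ : ℕ => K P S₀ 0) m
  have hr : (𝟙 _ - t P S₀) ≫ r = 𝟙 _ := Sigma.hom_ext _ _ fun n => by
    simp [r, t, Preadditive.comp_sub, Finset.sum_range_succ]
  have hag : a ≫ g P S₀ = 0 := by
    have hag' : a ≫ g P S₀ = b ≫ r ≫ g P S₀ := by
      rw [hb, Category.assoc, ← Category.assoc (𝟙 _ - t P S₀), hr, Category.id_comp]
    rw [hag', hc, hγ, Category.assoc, Category.assoc]
    have h0 : Limits.Sigma.map β ≫ Limits.Sigma.map z ≫ r ≫ g P S₀ = 0 := by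
      refine Sigma.hom_ext _ _ fun m => ?_
      rw [comp_zero, Sigma.ι_map_assoc, Sigma.ι_map_assoc, Sigma.ι_desc_assoc,
        ← Category.assoc]
      have hu : ev H (β m ≫ z m) (x P S₀ 0) = 0 := by
        rw [ev_comp, ← ev_ι₀ P S₀ (m + 1), ← ev_comp H (z m)]
        have h0 := comp_distTriang_mor_zero₁₂ _ (hT m)
        change z m ≫ ι₀ P S₀ (m + 1) = 0 at h0
        rw [h0, ev_zero, ev_map_zero]
      simp only [Preadditive.neg_comp, Preadditive.comp_neg, Preadditive.sum_comp,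
        Preadditive.comp_sum, neg_eq_zero]
      refine Finset.sum_eq_zero fun i _ => ?_
      rw [g, Sigma.ι_desc, ← Category.assoc, comp_ι₀_succ P S₀ _ hu, zero_comp]
    rw [h0, comp_zero]
  rw [hα, ha, hag]

/-- the main property of the tower -/
theorem exists_hocolim (hP : IsPerfect P) (hS : Covers P S₀) :
    ∃ (L : D) (xL : H.obj (op L)) (i : ∀ n, K P S₀ n ⟶ L),
      DerLim.IsHocolim (K P S₀) (f P S₀) L i ∧ (∀ n, ev H (i n) xL = x P S₀ n) ∧
      ∀ k, Function.Bijective (fun φ : P k ⟶ L => ev H φ xL) := by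
  set sh := DerLim.shiftMap (K P S₀) (f P S₀) with hsh
  obtain ⟨L, q, c, hT⟩ := distinguished_cocone_triangle (𝟙 (∐ K P S₀) - sh)
  let i : ∀ n, K P S₀ n ⟶ L := fun n => Sigma.ι (K P S₀) n ≫ q
  have hq : Sigma.desc i = q := Sigma.hom_ext _ _ fun n => by simp [i]
  obtain ⟨y, hy⟩ := exists_ev_desc H (fun n => x P S₀ n)
  obtain ⟨xL, hxL⟩ := exists_ev H hT y (by
    refine ev_hom_ext H (X := K P S₀) fun n => ?_
    rw [ev_map_zero, ev_sub, ev_id, ev_map_sub, ← ev_comp, hsh, DerLim.shiftMap, Sigma.ι_desc,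
      ev_comp, hy, hy, ev_f, sub_self])
  have hi : ∀ n, ev H (i n) xL = x P S₀ n := fun n => by rw [ev_comp, hxL, hy]
  have hcompat : sh ≫ q = q := by
    have h0 : (𝟙 (∐ K P S₀) - sh) ≫ q = 0 := comp_distTriang_mor_zero₁₂ _ hT
    rw [Preadditive.sub_comp, Category.id_comp, sub_eq_zero] at h0
    exact h0.symm
  have hcompat' : ∀ n, f P S₀ n ≫ i (n + 1) = i n := fun n => by
    have := Sigma.ι (K P S₀) n ≫= hcompat
    rw [hsh, DerLim.shiftMap, Sigma.ι_desc_assoc, Category.assoc] at this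
    exact this
  have hι₀ : ∀ n, ι₀ P S₀ n ≫ i n = i 0 := by
    intro n
    induction n with
    | zero => rw [ι₀, Category.id_comp]
    | succ n ih => rw [ι₀, Category.assoc, hcompat', ih]
  refine ⟨L, xL, i, ⟨c, by rw [hq]; exact hT⟩, hi, fun k => ⟨?_, ?_⟩⟩
  · intro φ₁ φ₂ h12
    rw [← sub_eq_zero]
    set φ := φ₁ - φ₂ with hφ
    have hev : ev H φ xL = 0 := by
      rw [hφ, ev_sub, sub_eq_zero]
      exact h12
    have hφc : φ ≫ c = 0 := by
      obtain ⟨k', ⟨e⟩⟩ := hP.shift k (-1)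
      let F := shiftFunctor D (-1 : ℤ)
      let N := shiftFunctorCompIsoId D (1 : ℤ) (-1) (add_neg_cancel _)
      have hzero : (φ ≫ c) ≫ (shiftFunctor D (1 : ℤ)).map (𝟙 _ - sh) = 0 := by
        have h31 : c ≫ (shiftFunctor D (1 : ℤ)).map (𝟙 (∐ K P S₀) - sh) = 0 :=
          comp_distTriang_mor_zero₃₁ _ hT
        rw [Category.assoc, h31, comp_zero]
      have hnat := N.hom.naturality (𝟙 (∐ K P S₀) - sh)
      simp only [Functor.comp_map, Functor.id_map] at hnat
      have hα := eq_zero_of_comp_sub hP hS k'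
        (e.hom ≫ F.map (φ ≫ c) ≫ N.hom.app (∐ K P S₀)) (by
          rw [← hsh, Category.assoc, Category.assoc, ← hnat, ← Category.assoc (F.map _),
            ← F.map_comp, hzero, F.map_zero, zero_comp, comp_zero])
      rw [Preadditive.IsIso.comp_left_eq_zero, Preadditive.IsIso.comp_right_eq_zero] at hα
      exact F.map_injective (hα.trans (F.map_zero _ _).symm)
    obtain ⟨α, hα⟩ : ∃ α : P k ⟶ ∐ K P S₀, φ = α ≫ q := Triangle.coyoneda_exact₃ _ hT φ hφc
    obtain ⟨a, ha⟩ := exists_comp_shiftMap hP hS k α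
    let fold : (∐ fun _ : ℕ => K P S₀ 0) ⟶ K P S₀ 0 := Sigma.desc fun _ => 𝟙 _
    have hgq : g P S₀ ≫ q = fold ≫ i 0 := Sigma.hom_ext _ _ fun n => by
      rw [g, Sigma.ι_desc_assoc, Sigma.ι_desc_assoc, Category.assoc, Category.id_comp]
      exact hι₀ (n + 1)
    have hφa : φ = (a ≫ fold) ≫ i 0 := by
      rw [hα, Category.assoc, ← hgq, ← Category.assoc, ← ha, Category.assoc, ← hsh, hcompat]
    rw [hφa, ← hcompat' 0, ← Category.assoc]
    have hu : ev H (a ≫ fold) (x P S₀ 0) = 0 := by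
      rw [← hi 0, ← ev_comp, ← hφa, hev]
    rw [comp_f P S₀ _ hu, zero_comp]
  · intro e
    obtain ⟨s, hs⟩ : ∃ s : P k ⟶ K P S₀ 0, ev H s (x P S₀ 0) = e := hS k e
    refine ⟨s ≫ i 0, ?_⟩
    show ev H (s ≫ i 0) xL = e
    rw [ev_comp, hi 0]
    exact hs


/-- a map inducing bijections on the perfect family is an isomorphism -/
theorem isIso_of_bijective (hP : IsPerfect P) {A B : D} (g : A ⟶ B)
    (hg : ∀ k, Function.Bijective (fun φ : P k ⟶ A => φ ≫ g)) : IsIso g := by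
  obtain ⟨Z, p, δ, hT⟩ := distinguished_cocone_triangle g
  refine (Triangle.isZero₃_iff_isIso₁ _ hT).1 (hP.detect Z fun k ψ => ?_)
  change P k ⟶ Z at ψ
  have hδ : ψ ≫ δ = 0 := by
    obtain ⟨k', ⟨e⟩⟩ := hP.shift k (-1)
    let F := shiftFunctor D (-1 : ℤ)
    let N := shiftFunctorCompIsoId D (1 : ℤ) (-1) (add_neg_cancel _)
    have h31 : δ ≫ (shiftFunctor D (1 : ℤ)).map g = 0 := comp_distTriang_mor_zero₃₁ _ hT
    have hnat := N.hom.naturality g
    simp only [Functor.comp_map, Functor.id_map] at hnat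
    have : e.hom ≫ F.map (ψ ≫ δ) ≫ N.hom.app A = 0 := (hg k').1 (by
      show (e.hom ≫ F.map (ψ ≫ δ) ≫ N.hom.app A) ≫ g = 0 ≫ g
      rw [zero_comp, Category.assoc, Category.assoc, ← hnat, ← Category.assoc (F.map _),
        ← F.map_comp, Category.assoc ψ, h31, comp_zero, F.map_zero, zero_comp, comp_zero])
    rw [Preadditive.IsIso.comp_left_eq_zero, Preadditive.IsIso.comp_right_eq_zero] at this
    exact F.map_injective (this.trans (F.map_zero _ _).symm)
  obtain ⟨u, hu⟩ : ∃ u : P k ⟶ B, ψ = u ≫ p := Triangle.coyoneda_exact₃ _ hT ψ hδ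
  obtain ⟨v, rfl⟩ := (hg k).2 u
  have h12 : g ≫ p = 0 := comp_distTriang_mor_zero₁₂ _ hT
  rw [hu, Category.assoc, h12, comp_zero]

variable [∀ k, Small.{w} (H.obj (op (P k)))]

/-- a pair is universal on the family -/
def IsUniv (P : κ → D) (X : D) (x : H.obj (op X)) : Prop :=
  ∀ k, Function.Bijective (fun φ : P k ⟶ X => ev H φ x)

theorem exists_univ (hP : IsPerfect P) (Y : D) (y : H.obj (op Y)) :
    ∃ (X : D) (x : H.obj (op X)) (j : Y ⟶ X), ev H j x = y ∧ IsUniv P X x := by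
  let Q := fun q : (Σ k : κ, H.obj (op (P k))) => P q.1
  obtain ⟨u, hu⟩ := exists_ev_desc H (X := Q) (fun q => q.2)
  let S₀ : Stage H := ⟨Y ⊞ ∐ Q, ev H biprod.fst y + ev H biprod.snd u⟩
  have hS : Covers P S₀ := fun k e => ⟨Sigma.ι Q ⟨k, e⟩ ≫ biprod.inr, by
    show ev H (Sigma.ι Q ⟨k, e⟩ ≫ biprod.inr) (ev H biprod.fst y + ev H biprod.snd u) = e
    rw [ev_map_add, ← ev_comp, ← ev_comp, Category.assoc, Category.assoc, biprod.inr_fst,
      biprod.inr_snd, comp_zero, Category.comp_id, ev_zero, zero_add, hu]⟩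
  obtain ⟨L, xL, i, -, hi, hbij⟩ := exists_hocolim hP hS
  let inl' : Y ⟶ K P S₀ 0 := biprod.inl
  refine ⟨L, xL, inl' ≫ i 0, ?_, hbij⟩
  rw [ev_comp, hi 0]
  show ev H biprod.inl (ev H biprod.fst y + ev H biprod.snd u) = y
  rw [ev_map_add, ← ev_comp, ← ev_comp, biprod.inl_fst, biprod.inl_snd, ev_id, ev_zero, add_zero]

theorem isIso_of_univ (hP : IsPerfect P) {A B : D} (g : A ⟶ B) {a : H.obj (op A)}
    {b : H.obj (op B)} (hab : ev H g b = a) (ha : IsUniv P A a) (hb : IsUniv P B b) :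
    IsIso g := by
  refine isIso_of_bijective hP g fun k => ?_
  refine ((hb k).of_comp_iff' (fun φ : P k ⟶ A => φ ≫ g)).1 ?_
  convert ha k using 1
  funext φ
  simp [ev_comp, hab]

theorem univ_bijective (hP : IsPerfect P) {X : D} {x : H.obj (op X)} (hx : IsUniv P X x) (Y : D) :
    Function.Bijective (fun φ : Y ⟶ X => ev H φ x) := by
  constructor
  · intro φ₁ φ₂ h
    rw [← sub_eq_zero]
    obtain ⟨Z, p, δ, hT⟩ := distinguished_cocone_triangle (φ₁ - φ₂)
    obtain ⟨z, hz⟩ := exists_ev H hT x (by rw [ev_sub, sub_eq_zero]; exact h)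
    obtain ⟨L, xL, j, hj, hL⟩ := exists_univ hP Z z
    have := isIso_of_univ hP (p ≫ j) (by rw [ev_comp, hj, hz]) hx hL
    have h12 : (φ₁ - φ₂) ≫ p = 0 := comp_distTriang_mor_zero₁₂ _ hT
    rw [← cancel_mono (p ≫ j), ← Category.assoc, h12, zero_comp, zero_comp]
  · intro y
    obtain ⟨L, xL, j, hj, hL⟩ :=
      exists_univ hP (X ⊞ Y) (ev H biprod.fst x + ev H biprod.snd y)
    have hinl : ev H (biprod.inl ≫ j) xL = x := by
      rw [ev_comp, hj, ev_map_add, ← ev_comp, ← ev_comp, biprod.inl_fst, biprod.inl_snd, ev_id,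
        ev_zero, add_zero]
    have hinr : ev H (biprod.inr ≫ j) xL = y := by
      rw [ev_comp, hj, ev_map_add, ← ev_comp, ← ev_comp, biprod.inr_fst, biprod.inr_snd, ev_id,
        ev_zero, zero_add]
    have := isIso_of_univ hP (biprod.inl ≫ j) hinl hx hL
    refine ⟨(biprod.inr ≫ j) ≫ inv (biprod.inl ≫ j), ?_⟩
    show ev H ((biprod.inr ≫ j) ≫ inv (biprod.inl ≫ j)) x = y
    rw [ev_comp, ← hinl, ← ev_comp H (inv _), IsIso.inv_hom_id, ev_id, hinr]

variable (H) in
/-- Brown representability -/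
theorem isRepresentable (hP : IsPerfect P) :
    (H ⋙ forget AddCommGrpCat.{w + 1}).IsRepresentable := by
  obtain ⟨Z, hZ⟩ : ∃ Z : D, IsZero Z := ⟨_, isZero_zero D⟩
  obtain ⟨X, x, -, -, hx⟩ := exists_univ (H := H) hP Z 0
  exact Functor.RepresentableBy.isRepresentable
    { homEquiv := fun {Y} => Equiv.ofBijective _ (univ_bijective hP hx Y)
      homEquiv_comp := fun {Y Y'} h g => ev_comp H h g x }

section Adjoint

variable {D' : Type u'} [Category.{w + 1} D'] [LocallySmall.{w} D'] [Preadditive D'] [HasZeroObject D'] [HasShift D' ℤ]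
  [∀ n : ℤ, (shiftFunctor D' n).Additive] [Pretriangulated D']

theorem isHomological_yoneda_comp (F : D ⥤ D') [F.Additive]
    (hF : ∀ T ∈ distTriang D, ∃ δ, Triangle.mk (F.map T.mor₁) (F.map T.mor₂) δ ∈ distTriang D') (Y : D') :
    (F.op ⋙ preadditiveYoneda.obj Y).IsHomological where
  exact T hT := by
    rw [ShortComplex.ab_exact_iff]
    intro (x₂ : F.obj T.obj₂.unop ⟶ Y) (hx₂ : F.map T.mor₂.unop ≫ x₂ = 0)
    obtain ⟨δ, hδ⟩ := hF _ (unop_distinguished T hT)
    obtain ⟨x₃, hx₃⟩ := Triangle.yoneda_exact₂ _ hδ x₂ hx₂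
    exact ⟨x₃, hx₃.symm⟩

theorem isLeftAdjoint (hP : IsPerfect P) (F : D ⥤ D') [F.Additive]
    (hF : ∀ T ∈ distTriang D, ∃ δ, Triangle.mk (F.map T.mor₁) (F.map T.mor₂) δ ∈ distTriang D')
    [∀ J : Type w, PreservesColimitsOfShape (Discrete J) F] : F.IsLeftAdjoint := by
  refine F.isLeftAdjoint_of_rightAdjointObjIsDefined_eq_top (funext fun Y => eq_true ?_)
  rw [Functor.rightAdjointObjIsDefined_iff]
  have := isHomological_yoneda_comp F hF Y
  have (J : Type (w + 1)) [Small.{w} J] : PreservesLimitsOfShape (Discrete J) F.op :=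
    have := preservesColimitsOfShape_of_equiv (Discrete.equivalence (equivShrink.{w} J)).symm F
    have := preservesColimitsOfShape_of_equiv (Discrete.opposite J).symm F
    preservesLimitsOfShape_op (Discrete J) F
  have : SmallProducts (F.op ⋙ preadditiveYoneda.obj Y) := ⟨fun J _ => inferInstance⟩
  have (k : κ) : Small.{w} ((F.op ⋙ preadditiveYoneda.obj Y).obj (op (P k))) :=
    inferInstanceAs (Small.{w} (F.obj (P k) ⟶ Y))
  exact isRepresentable (F.op ⋙ preadditiveYoneda.obj Y) hP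

end Adjoint

end Groth.Agent.QCohD.Brown
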