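/-
Maps from small complexes to countable sums factor through sums of small subcomplexes.
After `Groth.Agent.DHA.KInj.isPerfect_gen`, for derived categories with homs in any universe.
-/
import Groth.Agent.DHA.KInj.WellGenerated
import Mathlib.CategoryTheory.EssentiallySmall

universe w v u

open CategoryTheory CategoryTheory.Limits DerivedCategory
open Groth.Agent.DHA Groth.Agent.DHA.KInj

namespace Groth.Agent.QCohD

variable {A : Type u} [Category.{v} A] [Abelian A] [IsGrothendieckAbelian.{v} A] [HasDerivedCategory.{w} A]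

lemma enough_kInjective (M : CochainComplex A ℤ) :
    ∃ (I : CochainComplex A ℤ) (f : M ⟶ I), I.IsKInjective ∧ QuasiIso f :=
  ⟨_, (resolutionι A).app M, inferInstance, inferInstance⟩

instance locallySmall_derived : LocallySmall.{v} (DerivedCategory A) where
  hom_small X Y := by
    obtain ⟨I, f, _, _⟩ := enough_kInjective (Q.objPreimage Y)
    let eX := Q.objObjPreimageIso X
    let eY : Q.obj I ≅ Y := (asIso (Q.map f)).symm ≪≫ Q.objObjPreimageIso Y
    refine small_of_surjective (f := fun g : Q.objPreimage X ⟶ I => eX.inv ≫ Q.map g ≫ eY.hom) fun φ => ?_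
    obtain ⟨g, hg⟩ := Q_map_surjective _ _ (eX.hom ≫ φ ≫ eY.inv)
    exact ⟨g, by simp [hg]⟩

lemma hasCoproducts_derived' : HasCoproducts.{v} (DerivedCategory A) := fun J => ⟨fun F =>
  have := hasCoproduct_of_enough_kInjective enough_kInjective (F.obj ∘ Discrete.mk)
  hasColimit_of_iso (Discrete.natIsoFunctor : F ≅ Discrete.functor (F.obj ∘ Discrete.mk))⟩

lemma hasCoproducts_derived_nat' : HasColimitsOfShape (Discrete ℕ) (DerivedCategory A) := ⟨fun F =>
  have := hasCoproduct_of_enough_kInjective enough_kInjective (F.obj ∘ Discrete.mk)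
  hasColimit_of_iso (Discrete.natIsoFunctor : F ≅ Discrete.functor (F.obj ∘ Discrete.mk))⟩

variable {G : A} (hG : IsSeparator G) [HasColimitsOfShape (Discrete ℕ) (DerivedCategory A)]

include hG in
theorem exists_small_factor_nat {T : Type v} {C : CochainComplex A ℤ} (hcov : Cov G T C)
    (X : ℕ → DerivedCategory A) (α : Q.obj C ⟶ ∐ X) :
    ∃ (Cn : ℕ → CochainComplex A ℤ) (ι : ∀ n, Cn n ⟶ Q.objPreimage (X n))
      (γ : Q.obj C ⟶ ∐ fun n => Q.obj (Cn n)), (∀ n, Cov G (sub G (TT G T)) (Cn n)) ∧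
      α = γ ≫ Limits.Sigma.map fun n => Q.map (ι n) ≫ (Q.objObjPreimageIso (X n)).hom := by
  classical
  let K : ℕ → CochainComplex A ℤ := fun n => Q.objPreimage (X n)
  let eX : ∀ n, Q.obj (K n) ≅ X n := fun n => Q.objObjPreimageIso (X n)
  have hres : ∀ M : CochainComplex A ℤ, ∃ (I : CochainComplex A ℤ) (f : M ⟶ I),
      I.IsKInjective ∧ QuasiIso f :=
    fun M => ⟨_, (resolutionι A).app M, inferInstance, inferInstance⟩
  obtain ⟨hcK⟩ := nonempty_isColimit_Q hres K
  let e : ∐ X ⟶ Q.obj (∐ K) := Sigma.desc fun n => (eX n).inv ≫ Q.map (Sigma.ι K n)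
  let d : Q.obj (∐ K) ⟶ ∐ X := Cofan.IsColimit.desc hcK fun n => (eX n).hom ≫ Sigma.ι X n
  have hιd : ∀ n, Q.map (Sigma.ι K n) ≫ d = (eX n).hom ≫ Sigma.ι X n :=
    fun n => Cofan.IsColimit.fac hcK _ n
  have hed : e ≫ d = 𝟙 _ := Sigma.hom_ext _ _ fun n => by
    rw [Sigma.ι_desc_assoc, Category.assoc, hιd, Iso.inv_hom_id_assoc, Category.comp_id]
  let j := (resolutionι A).app (∐ K)
  have : Mono j := inferInstanceAs (Mono ((resolutionι A).app (∐ K)))
  have : QuasiIso j := inferInstanceAs (QuasiIso ((resolutionι A).app (∐ K)))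
  obtain ⟨f, hf⟩ := Q_map_surjective C ((resolution A).obj (∐ K)) (α ≫ e ≫ Q.map j)
  obtain ⟨C'', C', l₀, ι, g, l, hC', hι, hl₀, hl⟩ := exists_small_factor hG hcov j f
  let φ : Q.obj C ⟶ Q.obj C' := Q.map l₀ ≫ inv (Q.map ι)
  have hφ : φ ≫ Q.map l = α ≫ e := by
    have : IsIso (Q.map j) := inferInstance
    rw [← cancel_mono (Q.map j)]
    simp only [φ, Category.assoc]
    erw [← Functor.map_comp Q l]
    rw [← hl, Functor.map_comp, IsIso.inv_hom_id_assoc, ← Functor.map_comp, hl₀]
    exact hf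
  let p : ∀ n, C' ⟶ K n := fun n => l ≫ Sigma.desc (Pi.single n (𝟙 (K n)))
  let Cn : ℕ → CochainComplex A ℤ := fun n => Abelian.image (p n)
  let ιn : ∀ n, Cn n ⟶ K n := fun n => Abelian.image.ι (p n)
  have hιn : ∀ n, ιn n ≫ cokernel.π (p n) = 0 := fun n => kernel.condition _
  have hproj : ∀ n, Limits.Sigma.map ιn ≫ Sigma.desc (Pi.single n (𝟙 (K n))) =
      Sigma.desc (Pi.single n (𝟙 (Cn n))) ≫ ιn n := fun n => Sigma.hom_ext _ _ fun i => by
    rw [Sigma.ι_map_assoc, Sigma.ι_desc, Sigma.ι_desc_assoc]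
    by_cases h : i = n
    · subst h; rw [Pi.single_eq_same, Pi.single_eq_same, Category.comp_id, Category.id_comp]
    · rw [Pi.single_eq_of_ne h, Pi.single_eq_of_ne h, comp_zero, zero_comp]
  have hN := hasExactColimitsOfShape_nat (A := CochainComplex A ℤ)
  have : Mono (Limits.Sigma.map ιn) := Preadditive.mono_of_cancel_zero _ fun x hx =>
    Telescope.eq_zero_of_proj (coproductIsCoproduct Cn) x fun n => by
      have : Mono (ιn n) := inferInstanceAs (Mono (Abelian.image.ι (p n)))
      refine (cancel_mono (ιn n)).1 ?_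
      rw [cofan_desc_eq, Category.assoc, zero_comp]
      exact (congrArg (x ≫ ·) (hproj n).symm).trans
        ((Category.assoc _ _ _).symm.trans (by rw [hx, zero_comp]))
  have hlift : l ≫ cokernel.π (Limits.Sigma.map ιn) = 0 := by
    let π' := fun n => cokernel.π (ιn n)
    let h : ∐ (fun n => cokernel (ιn n)) ⟶ cokernel (Limits.Sigma.map ιn) :=
      Sigma.desc fun n => cokernel.desc (ιn n) (Sigma.ι K n ≫ cokernel.π _)
        (by rw [← Sigma.ι_map_assoc, cokernel.condition, comp_zero])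
    have h₁ : Limits.Sigma.map π' ≫ h = cokernel.π _ := Sigma.hom_ext _ _ fun n => by
      rw [Sigma.ι_map_assoc, Sigma.ι_desc, cokernel.π_desc]
    suffices l ≫ Limits.Sigma.map π' = 0 by rw [← h₁, reassoc_of% this, zero_comp]
    refine Telescope.eq_zero_of_proj (coproductIsCoproduct fun n => cokernel (ιn n)) _ fun n => ?_
    have h₂ : Limits.Sigma.map π' ≫
        Cofan.IsColimit.desc (coproductIsCoproduct fun n => cokernel (ιn n))
          (Pi.single n (𝟙 (cokernel (ιn n)))) =
        Sigma.desc (Pi.single n (𝟙 (K n))) ≫ π' n := Sigma.hom_ext _ _ fun i => by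
      rw [Sigma.ι_map_assoc, Sigma.ι_desc_assoc]
      erw [Cofan.IsColimit.fac]
      by_cases hi : i = n
      · subst hi; rw [Pi.single_eq_same, Pi.single_eq_same, Category.comp_id, Category.id_comp]
      · rw [Pi.single_eq_of_ne hi, Pi.single_eq_of_ne hi, comp_zero, zero_comp]
    rw [Category.assoc, h₂, ← Category.assoc]
    show p n ≫ cokernel.π (ιn n) = 0
    rw [← Abelian.image.fac (p n), Category.assoc, cokernel.condition, comp_zero]
  let l' : C' ⟶ ∐ Cn := Abelian.monoLift (Limits.Sigma.map ιn) l hlift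
  have hl' : l' ≫ Limits.Sigma.map ιn = l := Abelian.monoLift_comp _ _ _
  have hcovn : ∀ n, Cov G (sub G (TT G T)) (Cn n) := fun n => by
    have : Epi (Abelian.factorThruImage (p n)) := inferInstance
    exact Cov.of_epi hC' (Abelian.factorThruImage (p n))
  obtain ⟨hcC⟩ := nonempty_isColimit_Q hres Cn
  let δ : Q.obj (∐ Cn) ⟶ ∐ (fun n => Q.obj (Cn n)) := Cofan.IsColimit.desc hcC fun n =>
    Sigma.ι (fun n => Q.obj (Cn n)) n
  refine ⟨Cn, ιn, φ ≫ Q.map l' ≫ δ, hcovn, ?_⟩
  have hδ : δ ≫ (Limits.Sigma.map fun n => Q.map (ιn n) ≫ (Q.objObjPreimageIso (X n)).hom) =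
      Q.map (Limits.Sigma.map ιn) ≫ d :=
    Cofan.IsColimit.hom_ext hcC _ _ fun n => by
      show Q.map (Sigma.ι Cn n) ≫ _ = Q.map (Sigma.ι Cn n) ≫ _
      rw [← Functor.map_comp_assoc, Sigma.ι_map, Functor.map_comp_assoc, hιd]
      have hf1 : Q.map (Sigma.ι Cn n) ≫ δ = Sigma.ι (fun n => Q.obj (Cn n)) n :=
        Cofan.IsColimit.fac hcC _ n
      rw [reassoc_of% hf1, Sigma.ι_map, Category.assoc]
  simp only [Category.assoc]
  rw [hδ, ← Functor.map_comp_assoc, hl', show φ ≫ Q.map l ≫ d = (α ≫ e) ≫ d from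
    (Category.assoc _ _ _).symm.trans (congrArg (· ≫ d) hφ), Category.assoc, hed, Category.comp_id]

include hG in
lemma exactAt_of_hom_single_eq_zero' (K : CochainComplex A ℤ) (n : ℤ)
    (h : ∀ φ : Q.obj ((HomologicalComplex.single A (ComplexShape.up ℤ) n).obj G) ⟶ Q.obj K, φ = 0) :
    K.ExactAt n := by
  rw [HomologicalComplex.exactAt_iff_isZero_homology]
  suffices K.homologyπ n = 0 by exact IsZero.of_epi_eq_zero _ this
  refine (Preadditive.isSeparator_iff _).1 hG _ fun a => ?_
  let S := (HomologicalComplex.single A (ComplexShape.up ℤ) n).obj G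
  let x : G ⟶ K.X n := a ≫ K.iCycles n
  let f : S ⟶ K := HomologicalComplex.mkHomFromSingle x (fun j _ => by simp [x])
  let s : G ⟶ S.cycles n := S.liftCycles (HomologicalComplex.singleObjXSelf _ n G).inv (n + 1)
    (by simp) (by simp [S])
  have hs : s ≫ HomologicalComplex.cyclesMap f n = a := by
    rw [← cancel_mono (K.iCycles n)]
    simp [s, f, x, S]
  have h0 : HomologicalComplex.homologyMap f n = 0 := by
    change (HomologicalComplex.homologyFunctor A (ComplexShape.up ℤ) n).map f = 0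
    rw [← cancel_epi ((homologyFunctorFactors A n).hom.app S)]
    erw [← (homologyFunctorFactors A n).hom.naturality f]
    show (homologyFunctor A n).map (Q.map f) ≫ _ = _
    rw [h (Q.map f), Functor.map_zero, zero_comp, comp_zero]
  rw [← hs, Category.assoc, ← HomologicalComplex.homologyπ_naturality, h0, comp_zero, comp_zero]

end Groth.Agent.QCohD
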