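/-
In a Grothendieck abelian category with a well behaved class `P` of objects: a small complex mapping to a
complex with cohomology in `P` factors through a small complex with cohomology in `P`.
-/
import Groth.Agent.DHA.KInj.WellGenerated
import Groth.Agent.KFlat.HomologyColim
import Mathlib.Algebra.Homology.HomotopyCategory.MappingCone
import Mathlib.CategoryTheory.Functor.OfSequence

set_option backward.isDefEq.respectTransparency.types false
set_option backward.isDefEq.respectTransparency false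

universe v u

open CategoryTheory CategoryTheory.Limits ZeroObject
open Groth.Agent.DHA.KInj

namespace Groth.Agent.QCohD

variable {A : Type u} [Category.{v} A] [Abelian A] [IsGrothendieckAbelian.{v} A]
variable {G : A} (hG : IsSeparator G)

include hG in
/-- generators of subobjects -/
lemma exists_epi_of_mono {T : Type v} {Y Y' : A} (e : pow G T ⟶ Y) [Epi e] (i : Y' ⟶ Y) [Mono i] :
    ∃ e' : pow G (sub G T) ⟶ Y', Epi e' := by
  classical
  let S := Subobject.mk (pullback.snd i e)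
  let s : Shrink.{v} (Subobject (pow G T)) := equivShrink (Subobject (pow G T)) S
  have hs : (equivShrink (Subobject (pow G T))).symm s = S := Equiv.symm_apply_apply _ _
  let q : ((equivShrink (Subobject (pow G T))).symm s : A) ⟶ Y' :=
    (Subobject.isoOfEq _ _ hs ≪≫ Subobject.underlyingIso _).hom ≫ pullback.fst i e
  have : Epi q := epi_comp _ _
  have := epi_desc_homs hG ((equivShrink (Subobject (pow G T))).symm s : A)
  let e' : pow G (sub G T) ⟶ Y' := Sigma.desc fun p =>
    if hp : p.1 = s then p.2 ≫ eqToHom (by rw [hp]) ≫ q else 0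
  refine ⟨e', epi_of_epi_fac (f := Sigma.desc fun h : G ⟶ ((equivShrink (Subobject (pow G T))).symm s : A) =>
    Sigma.ι (fun _ : sub G T => G) ⟨s, h⟩)
    (h := Sigma.desc (fun h : G ⟶ ((equivShrink (Subobject (pow G T))).symm s : A) => h) ≫ q) ?_⟩
  refine Sigma.hom_ext _ _ fun h => ?_
  rw [Sigma.ι_desc_assoc, Sigma.ι_desc_assoc, Sigma.ι_desc, dif_pos rfl, eqToHom_refl,
    Category.id_comp]

/-- hypotheses on the class `P` relative to the index bound `bd` -/
structure Good (P : ObjectProperty A) (G : A) (bd : Type v → Type v) : Prop where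
  iso : P.IsClosedUnderIsomorphisms
  colim : ∀ F : ℕ ⥤ A, (∀ k, P (F.obj k)) → P (colimit F)
  bdd : ∀ (T : Type v) (M : A), P M → ∀ e : pow G T ⟶ M, ∃ (Q : A) (q : Q ⟶ M) (_ : Mono q),
    P Q ∧ e ≫ cokernel.π q = 0 ∧ ∃ p : pow G (bd T) ⟶ Q, Epi p

variable {P : ObjectProperty A} {bd : Type v → Type v}

/-- complex with zero differentials -/
noncomputable abbrev zeroCx (W : A) : CochainComplex A ℤ where
  X _ := W
  d _ _ := 0

@[simp] lemma zeroCx_d (W : A) (i j : ℤ) : (zeroCx W).d i j = 0 := rfl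

lemma homology_map_ext_zeroCx {W : A} {K : CochainComplex A ℤ} (f : zeroCx W ⟶ K) (m : ℤ)
    {Z : A} (g : K.homology m ⟶ Z)
    (h : K.liftCycles (f.f m) (m + 1) (by simp) (by rw [f.comm]; exact zero_comp) ≫ K.homologyπ m ≫ g = 0) :
    HomologicalComplex.homologyMap f m ≫ g = 0 := by
  have := (zeroCx W).isIso_iCycles m (m + 1) (by simp) (zeroCx_d W _ _)
  rw [← cancel_epi ((zeroCx W).homologyπ m), comp_zero, HomologicalComplex.homologyπ_naturality_assoc,
    ← cancel_epi (inv ((zeroCx W).iCycles m)), comp_zero]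
  rw [← h, ← Category.assoc]
  congr 1
  rw [← cancel_mono (K.iCycles m)]
  simp

lemma liftCycles_homologyπ_zeroCx {W : A} {K : CochainComplex A ℤ} (f : zeroCx W ⟶ K) (m : ℤ) :
    ∃ c : W ⟶ (zeroCx W).homology m, c ≫ HomologicalComplex.homologyMap f m =
      K.liftCycles (f.f m) (m + 1) (by simp) (by rw [f.comm]; exact zero_comp) ≫ K.homologyπ m := by
  refine ⟨(zeroCx W).liftCycles (𝟙 _) (m + 1) (by simp) (by simp) ≫ (zeroCx W).homologyπ m, ?_⟩
  rw [Category.assoc, HomologicalComplex.homologyπ_naturality, ← Category.assoc]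
  congr 1
  rw [← cancel_mono (K.iCycles m)]
  simp

/-- cycles as maps into the terms -/
noncomputable def zeroCxHom {W : A} {K : CochainComplex A ℤ} (z : ∀ m, W ⟶ K.cycles m) :
    zeroCx W ⟶ K where
  f m := z m ≫ K.iCycles m
  comm' i j _ := by simp

lemma liftCycles_zeroCxHom {W : A} {K : CochainComplex A ℤ} (z : ∀ m, W ⟶ K.cycles m) (m : ℤ)
    (hm : (zeroCxHom z).f m ≫ K.d m (m + 1) = 0) :
    K.liftCycles ((zeroCxHom z).f m) (m + 1) (by simp) hm = z m := by
  rw [← cancel_mono (K.iCycles m)]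
  simp [zeroCxHom]

lemma cov_zeroCx (T : Type v) : Cov G T (zeroCx (pow G T)) := fun _ => ⟨𝟙 _, inferInstanceAs (Epi (𝟙 _))⟩

lemma epi_of_sum {T₁ T₂ : Type v} {Y : A} (e₁ : pow G T₁ ⟶ Y) (e₂ : pow G T₂ ⟶ Y)
    (h : ∀ {Z : A} (g : Y ⟶ Z), e₁ ≫ g = 0 → e₂ ≫ g = 0 → g = 0) :
    ∃ e : pow G (T₁ ⊕ T₂) ⟶ Y, Epi e := by
  refine ⟨Sigma.desc (Sum.elim (fun t => Sigma.ι (fun _ : T₁ => G) t ≫ e₁)
    fun t => Sigma.ι (fun _ : T₂ => G) t ≫ e₂), Preadditive.epi_of_cancel_zero _ fun g hg => h g ?_ ?_⟩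
  · refine Sigma.hom_ext _ _ fun t => ?_
    have := Sigma.ι (fun _ : T₁ ⊕ T₂ => G) (Sum.inl t) ≫= hg
    rw [Sigma.ι_desc_assoc] at this
    simpa using this
  · refine Sigma.hom_ext _ _ fun t => ?_
    have := Sigma.ι (fun _ : T₁ ⊕ T₂ => G) (Sum.inr t) ≫= hg
    rw [Sigma.ι_desc_assoc] at this
    simpa using this

lemma cov_biprod {T₁ T₂ : Type v} {C₁ C₂ : CochainComplex A ℤ} (h₁ : Cov G T₁ C₁) (h₂ : Cov G T₂ C₂) :
    Cov G (T₁ ⊕ T₂) (C₁ ⊞ C₂) := fun m => by
  obtain ⟨e₁, _⟩ := h₁ m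
  obtain ⟨e₂, _⟩ := h₂ m
  refine epi_of_sum (e₁ ≫ (biprod.inl : C₁ ⟶ C₁ ⊞ C₂).f m) (e₂ ≫ (biprod.inr : C₂ ⟶ C₁ ⊞ C₂).f m)
    fun g h h' => ?_
  rw [Category.assoc, ← comp_zero (f := e₁), cancel_epi] at h
  rw [Category.assoc, ← comp_zero (f := e₂), cancel_epi] at h'
  calc g = (biprod.fst ≫ biprod.inl + biprod.snd ≫ biprod.inr : C₁ ⊞ C₂ ⟶ C₁ ⊞ C₂).f m ≫ g := by
        rw [biprod.total]; exact (Category.id_comp g).symm
    _ = 0 := by
        simp only [HomologicalComplex.add_f_apply, HomologicalComplex.comp_f, Preadditive.add_comp,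
          Category.assoc, h, h', comp_zero, add_zero]

lemma cov_mappingCone {T₁ T₂ : Type v} {C₁ C₂ : CochainComplex A ℤ} (φ : C₁ ⟶ C₂)
    [HomologicalComplex.HasHomotopyCofiber φ] (h₁ : Cov G T₁ C₁) (h₂ : Cov G T₂ C₂) :
    Cov G (T₁ ⊕ T₂) (CochainComplex.mappingCone φ) := fun m => by
  obtain ⟨e₁, _⟩ := h₁ (m + 1)
  obtain ⟨e₂, _⟩ := h₂ m
  refine epi_of_sum (e₁ ≫ (CochainComplex.mappingCone.inl φ).v (m + 1) m (by omega))
    (e₂ ≫ (CochainComplex.mappingCone.inr φ).f m) fun g h h' => ?_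
  rw [Category.assoc, ← comp_zero (f := e₁), cancel_epi] at h
  rw [Category.assoc, ← comp_zero (f := e₂), cancel_epi] at h'
  rw [CochainComplex.mappingCone.ext_from_iff φ (m + 1) m rfl]
  exact ⟨by rw [h, comp_zero], by rw [h', comp_zero]⟩

/-- index bound after adjoining classes -/
abbrev T1 (G : A) (bd : Type v → Type v) (T : Type v) : Type v :=
  T ⊕ (bd (sub G T) × Sz G)

/-- index bound of a step -/
abbrev nextT (G : A) (bd : Type v → Type v) (T : Type v) : Type v :=
  (sub G (sub G (T1 G bd T)) × Sz G) ⊕ T1 G bd T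

include hG in
/-- first half: make the image in cohomology lie in `P` -/
lemma exists_image_mem (hP : Good P G bd) {T : Type v} {C K : CochainComplex A ℤ} (hC : Cov G T C)
    (f : C ⟶ K) (hK : ∀ m, P (K.homology m)) :
    ∃ (C₁ : CochainComplex A ℤ) (i : C ⟶ C₁) (f₁ : C₁ ⟶ K), Cov G (T1 G bd T) C₁ ∧ i ≫ f₁ = f ∧
      ∀ m, ∃ (Q : A) (q : Q ⟶ K.homology m) (ψ : C₁.homology m ⟶ Q), Mono q ∧ Epi ψ ∧ P Q ∧
        ψ ≫ q = HomologicalComplex.homologyMap f₁ m := by
  have hgen : ∀ m, ∃ e : pow G (sub G T) ⟶ C.homology m, Epi e := fun m => by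
    obtain ⟨e, _⟩ := hC m
    obtain ⟨e', _⟩ := exists_epi_of_mono hG e (C.iCycles m)
    exact ⟨e' ≫ C.homologyπ m, inferInstance⟩
  choose g hg using hgen
  choose Q q hq hPQ hfac p hp using fun m =>
    hP.bdd (sub G T) _ (hK m) (g m ≫ HomologicalComplex.homologyMap f m)
  let a : ∀ m, bd (sub G T) → (G ⟶ K.homology m) := fun m t =>
    Sigma.ι (fun _ : bd (sub G T) => G) t ≫ p m ≫ q m
  choose h hin hspan using fun m t => exists_lift_family hG (K.homologyπ m) (a m t)
    (by rw [cokernel.π_of_epi, comp_zero])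
  let z : ∀ m, pow G (bd (sub G T) × Sz G) ⟶ K.cycles m :=
    fun m => Sigma.desc fun r => h m r.1 r.2
  let w := zeroCxHom z
  refine ⟨C ⊞ zeroCx _, biprod.inl, biprod.desc f w, cov_biprod hC (cov_zeroCx _),
    biprod.inl_desc _ _, fun m => ?_⟩
  have := hq m
  let M := HomologicalComplex.homologyMap (biprod.desc f w) m
  have hf : HomologicalComplex.homologyMap f m ≫ cokernel.π (q m) = 0 := by
    have := hg m
    rw [← cancel_epi (g m), comp_zero, ← Category.assoc]
    exact hfac m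
  have hw : HomologicalComplex.homologyMap w m ≫ cokernel.π (q m) = 0 := by
    refine homology_map_ext_zeroCx w m _ ?_
    rw [liftCycles_zeroCxHom]
    refine Sigma.hom_ext _ _ fun r => ?_
    obtain ⟨e, he⟩ := hin m r.1 r.2
    simp only [z]
    rw [Sigma.ι_desc_assoc, comp_zero, reassoc_of% he]
    simp [a]
  have hM : M ≫ cokernel.π (q m) = 0 := by
    have e : biprod.desc f w = biprod.fst ≫ f + biprod.snd ≫ w := biprod.desc_eq
    simp [M, e, HomologicalComplex.homologyMap_add, HomologicalComplex.homologyMap_comp, hf, hw]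
  let ψ := Abelian.monoLift (q m) M hM
  have hψ : ψ ≫ q m = M := Abelian.monoLift_comp _ _ _
  refine ⟨Q m, q m, ψ, this, Preadditive.epi_of_cancel_zero _ fun g' hg' => ?_, hPQ m, hψ⟩
  have := hp m
  rw [← cancel_epi (p m), comp_zero]
  refine Sigma.hom_ext _ _ fun t => ?_
  rw [comp_zero, ← Category.assoc]
  obtain ⟨c, hc⟩ := liftCycles_homologyπ_zeroCx w m
  rw [liftCycles_zeroCxHom] at hc
  have hwf : HomologicalComplex.homologyMap (biprod.inr : zeroCx _ ⟶ C ⊞ zeroCx _) m ≫ M =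
      HomologicalComplex.homologyMap w m := by
    rw [← HomologicalComplex.homologyMap_comp, biprod.inr_desc]
  let c' := c ≫ HomologicalComplex.homologyMap (biprod.inr : zeroCx _ ⟶ C ⊞ zeroCx _) m
  have hc' : ∀ r, (Sigma.ι (fun _ => G) r ≫ c' ≫ ψ) ≫ q m = h m r.1 r.2 ≫ K.homologyπ m := fun r => by
    rw [Category.assoc, Category.assoc, hψ, Category.assoc, hwf, hc, ← Category.assoc,
      Sigma.ι_desc]
  let d := Sigma.desc fun s => h m t s ≫ K.homologyπ m
  have hd : d = (Sigma.desc fun s => Sigma.ι (fun _ => G) (t, s) ≫ c' ≫ ψ) ≫ q m :=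
    Sigma.hom_ext _ _ fun s => by rw [Sigma.ι_desc, Sigma.ι_desc_assoc, hc' (t, s)]
  obtain ⟨W, π, hπ, x, hx⟩ := (cok_iff d (a m t)).1 (hspan m t)
  rw [hd, show a m t = (Sigma.ι (fun _ => G) t ≫ p m) ≫ q m from (Category.assoc _ _ _).symm,
    ← Category.assoc π, ← Category.assoc x, cancel_mono] at hx
  rw [← cancel_epi π, comp_zero, ← Category.assoc, hx, Category.assoc]
  convert comp_zero (f := x)
  refine Sigma.hom_ext _ _ fun s => ?_
  simp [hg']

include hG in
/-- second half: kill the kernel in cohomology -/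
lemma exists_kill_kernel {T : Type v} {C₁ K : CochainComplex A ℤ} (hC : Cov G T C₁) (f₁ : C₁ ⟶ K) :
    ∃ (C₂ : CochainComplex A ℤ) (i : C₁ ⟶ C₂) (f₂ : C₂ ⟶ K),
      Cov G ((sub G (sub G T) × Sz G) ⊕ T) C₂ ∧ i ≫ f₂ = f₁ ∧
      ∀ m, kernel.ι (HomologicalComplex.homologyMap f₁ m) ≫ HomologicalComplex.homologyMap i m = 0 := by
  let N := fun m => kernel.ι (HomologicalComplex.homologyMap f₁ m)
  have hgen : ∀ m, ∃ e : pow G (sub G (sub G T)) ⟶ kernel (HomologicalComplex.homologyMap f₁ m),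
      Epi e := fun m => by
    obtain ⟨e, _⟩ := hC m
    obtain ⟨e', _⟩ := exists_epi_of_mono hG e (C₁.iCycles m)
    exact exists_epi_of_mono hG (e' ≫ C₁.homologyπ m) (N m)
  choose g hg using hgen
  let a : ∀ m, sub G (sub G T) → (G ⟶ C₁.homology m) := fun m t =>
    Sigma.ι (fun _ : sub G (sub G T) => G) t ≫ g m ≫ N m
  let pr : ∀ m, pullback (HomologicalComplex.cyclesMap f₁ m) (K.toCycles (m - 1) m) ⟶ C₁.homology m :=
    fun m => pullback.fst _ _ ≫ C₁.homologyπ m
  have ha : ∀ m t, a m t ≫ cokernel.π (pr m) = 0 := fun m t => by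
    obtain ⟨W, π, hπ, x, hx⟩ := (cok_iff (C₁.homologyπ m) (a m t)).1 (by rw [cokernel.π_of_epi, comp_zero])
    have h0 : (x ≫ HomologicalComplex.cyclesMap f₁ m) ≫ K.homologyπ m = 0 := by
      rw [Category.assoc, ← HomologicalComplex.homologyπ_naturality, ← Category.assoc, ← hx]
      simp [a, N]
    have hex : (ShortComplex.mk _ _ (K.toCycles_comp_homologyπ (m - 1) m)).Exact :=
      ShortComplex.exact_of_g_is_cokernel _ (K.homologyIsCokernel (m - 1) m (by simp))
    obtain ⟨W', π', hπ', y, hy⟩ := hex.exact_up_to_refinements _ h0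
    refine (cok_iff _ _).2 ⟨W', π' ≫ π, inferInstance, pullback.lift (π' ≫ x) y ?_, ?_⟩
    · rw [Category.assoc]; exact hy
    · simp [pr, hx]
  choose h hin hspan using fun m t => exists_lift_family hG (pr m) (a m t) (ha m t)
  let u : ∀ m, pow G (sub G (sub G T) × Sz G) ⟶
      pullback (HomologicalComplex.cyclesMap f₁ m) (K.toCycles (m - 1) m) :=
    fun m => Sigma.desc fun r => h m r.1 r.2
  let w := zeroCxHom fun m => u m ≫ pullback.fst _ _
  let α : CochainComplex.HomComplex.Cochain (zeroCx (pow G (sub G (sub G T) × Sz G))) K (-1) :=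
    CochainComplex.HomComplex.Cochain.mk fun p q hpq =>
      u p ≫ pullback.snd _ _ ≫ eqToHom (congrArg K.X (show p - 1 = q by omega))
  have hα : CochainComplex.HomComplex.δ (-1) 0 α =
      CochainComplex.HomComplex.Cochain.ofHom (w ≫ f₁) := by
    ext p
    rw [CochainComplex.HomComplex.δ_v (-1) 0 rfl α p p (add_zero p) (p - 1) (p + 1) rfl rfl]
    simp only [CochainComplex.HomComplex.Cochain.ofHom_v, zeroCx_d, zero_comp, smul_zero, add_zero,
      HomologicalComplex.comp_f, w, zeroCxHom, α, CochainComplex.HomComplex.Cochain.mk_v,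
      eqToHom_refl, Category.comp_id, Category.assoc]
    rw [← K.toCycles_i (i := p - 1) (j := p), ← reassoc_of% pullback.condition, HomologicalComplex.cyclesMap_i]
  refine ⟨CochainComplex.mappingCone w, CochainComplex.mappingCone.inr w,
    CochainComplex.mappingCone.desc w α f₁ hα, cov_mappingCone w (cov_zeroCx _) hC,
    CochainComplex.mappingCone.inr_desc _ _ _ _, fun m => ?_⟩
  have := hg m
  rw [← cancel_epi (g m), comp_zero]
  refine Sigma.hom_ext _ _ fun t => ?_
  rw [comp_zero, ← Category.assoc (g m), ← Category.assoc]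
  obtain ⟨W, π, hπ, x, hx⟩ := (cok_iff _ (a m t)).1 (hspan m t)
  change (a m t) ≫ _ = 0
  rw [← cancel_epi π, comp_zero, ← Category.assoc, hx, Category.assoc]
  convert comp_zero (f := x)
  refine Sigma.hom_ext _ _ fun s => ?_
  obtain ⟨c, hc⟩ := liftCycles_homologyπ_zeroCx w m
  rw [liftCycles_zeroCxHom, Category.assoc] at hc
  have h0 : HomologicalComplex.homologyMap w m ≫
      HomologicalComplex.homologyMap (CochainComplex.mappingCone.inr w) m = 0 := by
    rw [← HomologicalComplex.homologyMap_comp]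
    refine ((HomologicalComplex.homotopyCofiber.inrCompHomotopy w (fun j => ⟨j - 1, by simp⟩)).homologyMap_eq m).trans ?_
    rw [HomologicalComplex.homologyMap_zero]
  have : h m t s ≫ pr m = (Sigma.ι (fun _ => G) (t, s) ≫ c) ≫ HomologicalComplex.homologyMap w m := by
    rw [Category.assoc, hc, Sigma.ι_desc_assoc]
  rw [Sigma.ι_desc_assoc, comp_zero, this, Category.assoc, h0, comp_zero]

include hG in
/-- one step: on cohomology the map factors through an object in `P` -/
lemma exists_step (hP : Good P G bd) {T : Type v} {C K : CochainComplex A ℤ} (hC : Cov G T C)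
    (f : C ⟶ K) (hK : ∀ m, P (K.homology m)) :
    ∃ (C₂ : CochainComplex A ℤ) (i : C ⟶ C₂) (f₂ : C₂ ⟶ K), Cov G (nextT G bd T) C₂ ∧ i ≫ f₂ = f ∧
      ∀ m, ∃ (Q : A) (a : C.homology m ⟶ Q) (b : Q ⟶ C₂.homology m), P Q ∧
        a ≫ b = HomologicalComplex.homologyMap i m := by
  obtain ⟨C₁, i₁, f₁, hC₁, hi₁, h₁⟩ := exists_image_mem hG hP hC f hK
  obtain ⟨C₂, i₂, f₂, hC₂, hi₂, h₂⟩ := exists_kill_kernel hG hC₁ f₁
  refine ⟨C₂, i₁ ≫ i₂, f₂, hC₂, by rw [Category.assoc, hi₂, hi₁], fun m => ?_⟩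
  obtain ⟨Q, q, ψ, _, _, hQ, hψ⟩ := h₁ m
  let b := Abelian.epiDesc ψ (HomologicalComplex.homologyMap i₂ m) (by
    have h0 : kernel.ι ψ ≫ HomologicalComplex.homologyMap f₁ m = 0 := by
      rw [← hψ, kernel.condition_assoc, zero_comp]
    rw [← kernel.lift_ι _ _ h0, Category.assoc, h₂ m, comp_zero])
  refine ⟨Q, HomologicalComplex.homologyMap i₁ m ≫ ψ, b, hQ, ?_⟩
  rw [Category.assoc, Abelian.comp_epiDesc, HomologicalComplex.homologyMap_comp]

/-- index bounds of the iterated steps -/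
def stepT (G : A) (bd : Type v → Type v) (T : Type v) : ℕ → Type v
  | 0 => T
  | k + 1 => nextT G bd (stepT G bd T k)

/-- index bound of an enlargement -/
abbrev enlT (G : A) (bd : Type v → Type v) (T : Type v) : Type v := Σ k, stepT G bd T k

/-- a small complex over `K` -/
structure Over' (G : A) (bd : Type v → Type v) (T : Type v) (K : CochainComplex A ℤ) (k : ℕ) where
  C : CochainComplex A ℤ
  f : C ⟶ K
  cov : Cov G (stepT G bd T k) C

include hG in
/-- enlargement -/
theorem exists_enlarge (hP : Good P G bd) {T : Type v} {C K : CochainComplex A ℤ} (hC : Cov G T C)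
    (f : C ⟶ K) (hK : ∀ m, P (K.homology m)) :
    ∃ (E : CochainComplex A ℤ) (a : C ⟶ E) (b : E ⟶ K), Cov G (enlT G bd T) E ∧
      (∀ m, P (E.homology m)) ∧ a ≫ b = f := by
  have hstep : ∀ k (S : Over' G bd T K k), ∃ (S' : Over' G bd T K (k + 1)) (i : S.C ⟶ S'.C),
      i ≫ S'.f = S.f ∧ ∀ m, ∃ (Q : A) (a : S.C.homology m ⟶ Q) (b : Q ⟶ S'.C.homology m), P Q ∧
        a ≫ b = HomologicalComplex.homologyMap i m := fun k S => by
    obtain ⟨C₂, i, f₂, h₁, h₂, h₃⟩ := exists_step hG hP S.cov S.f hK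
    exact ⟨⟨C₂, f₂, h₁⟩, i, h₂, h₃⟩
  choose nxt i hi hfac using hstep
  let S : ∀ k, Over' G bd T K k := fun k => Nat.rec ⟨C, f, hC⟩ (fun k S => nxt k S) k
  let F : ℕ ⥤ CochainComplex A ℤ := Functor.ofSequence (X := fun k => (S k).C) fun k => i k (S k)
  have := hasExactColimitsOfShape_nat (A := A)
  let b : colimit F ⟶ K := colimit.desc F (Cocone.mk K
    (NatTrans.ofSequence (fun k => (S k).f) fun k => by
      change F.map (homOfLE (Nat.le_add_right k 1)) ≫ _ = _ ≫ 𝟙 K
      rw [Category.comp_id, Functor.ofSequence_map_homOfLE_succ]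
      exact hi k (S k)))
  refine ⟨colimit F, colimit.ι F 0, b, fun m => ?_, fun m => ?_, colimit.ι_desc _ _⟩
  · choose e he using fun k => (S k).cov m
    refine ⟨Sigma.desc fun p => Sigma.ι (fun _ => G) p.2 ≫ e p.1 ≫ (colimit.ι F p.1).f m,
      Preadditive.epi_of_cancel_zero _ fun g hg => ?_⟩
    refine (isColimitOfPreserves (HomologicalComplex.eval A _ m) (colimit.isColimit F)).hom_ext
      fun k => ?_
    change (colimit.ι F k).f m ≫ g = (colimit.ι F k).f m ≫ 0
    have := he k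
    rw [comp_zero, ← cancel_epi (e k), comp_zero]
    refine Sigma.hom_ext _ _ fun t => ?_
    have h := Sigma.ι (fun _ : enlT G bd T => G) ⟨k, t⟩ ≫= hg
    rw [Sigma.ι_desc_assoc, comp_zero] at h
    simpa using h
  · let H := HomologicalComplex.homologyFunctor A (ComplexShape.up ℤ) m
    choose Qk a b hQ hab using fun k => hfac k (S k) m
    let hH : ℕ ⥤ A := F ⋙ H
    have hmap : ∀ k, hH.map (homOfLE (Nat.le_add_right k 1)) = a k ≫ b k := fun k => by
      rw [hab]
      exact congrArg H.map (Functor.ofSequence_map_homOfLE_succ _ k)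
    let Q' : ℕ ⥤ A := Functor.ofSequence (X := Qk) fun k => b k ≫ a (k + 1)
    let α : hH ⟶ Q' := NatTrans.ofSequence a fun k => by
      rw [hmap, Functor.ofSequence_map_homOfLE_succ, Category.assoc]
    let β : colimit Q' ⟶ colimit hH := colimit.desc Q' (Cocone.mk _
      (NatTrans.ofSequence (fun k => b k ≫ colimit.ι hH (k + 1)) fun k => by
        change Q'.map (homOfLE (Nat.le_add_right k 1)) ≫ _ = _ ≫ 𝟙 _
        rw [Category.comp_id, Functor.ofSequence_map_homOfLE_succ, Category.assoc,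
          ← Category.assoc (a (k + 1)), ← hmap]
        congr 1
        exact colimit.w hH _))
    let e : colimit hH ≅ colimit Q' :=
      { hom := colimMap α
        inv := β
        hom_inv_id := colimit.hom_ext fun k => by
          rw [ι_colimMap_assoc, colimit.ι_desc]
          change a k ≫ b k ≫ _ = _
          rw [← Category.assoc, ← hmap, colimit.w, Category.comp_id]
        inv_hom_id := colimit.hom_ext fun k => by
          rw [colimit.ι_desc_assoc]
          change (b k ≫ colimit.ι hH (k + 1)) ≫ colimMap α = _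
          rw [Category.assoc, ι_colimMap, Category.comp_id, ← Category.assoc]
          change (b k ≫ a (k + 1)) ≫ _ = _
          rw [← Functor.ofSequence_map_homOfLE_succ (X := Qk) (fun k => b k ≫ a (k + 1)) k]
          exact colimit.w Q' _ }
    have := hP.iso
    exact P.prop_of_iso ((preservesColimitIso H F) ≪≫ e).symm (hP.colim Q' hQ)

end Groth.Agent.QCohD
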