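/-
Quasi-coherent modules form a good class for the enlargement lemma.
-/
import Groth.Agent.QCohD.Enlarge
import Groth.Agent.QCohGen.Groth

universe u

open CategoryTheory CategoryTheory.Limits AlgebraicGeometry Opposite TopologicalSpace
open Groth.Agent.DHA.KInj Groth.Agent.QCohGen

noncomputable section

namespace Groth.Agent.QCohD

variable (X : Scheme.{u}) (G : X.Modules)

/-- the bound on generators -/
abbrev qbd (T : Type u) : Type u :=
  Σ V : X.affineOpens, Σ _ : Γ(pow G T, V.1), Σ c : QCode X, (G ⟶ codeObj X c.1)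

lemma colimit_mem (F : ℕ ⥤ X.Modules) (h : ∀ k, QCohCat.isQCoh X (F.obj k)) :
    QCohCat.isQCoh X (colimit F) := by
  let e := AsSmall.equiv.{0, 0, u} (C := ℕ)
  have : ∀ j, ((e.inverse ⋙ F).obj j).IsQuasicoherent := fun j => h _
  exact ObjectProperty.prop_of_iso _ (HasColimit.isoOfEquivalence e.symm (Iso.refl _))
    (QCoh.isQuasicoherent_colimit (e.inverse ⋙ F) : QCohCat.isQCoh X (colimit (e.inverse ⋙ F)))

variable {G} (hG : IsSeparator G)

include hG in
theorem good : Good (QCohCat.isQCoh X) G (qbd X G) where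
  iso := inferInstance
  colim := colimit_mem X
  bdd T M hM e := by
    classical
    have : M.IsQuasicoherent := hM
    have key : ∀ p : Σ V : X.affineOpens, Γ(pow G T, V.1), ∃ (c : QCode X) (a : codeObj X c.1 ⟶ M),
        e.app p.1.1 p.2 ∈ Set.range (a.app p.1.1) := fun ⟨V, s⟩ => by
      obtain ⟨G', a, _, hG', hb, ⟨t', ht'⟩⟩ := exists_bdd_sub M V (e.app V.1 s)
      obtain ⟨R, S, ⟨i⟩⟩ := exists_subobject_iso_of_bdd G' hb
      let c : Code X := ⟨V, R, equivShrink _ S⟩
      have hc : codeObj X c = (S : X.Modules) := by simp [codeObj, c]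
      let j : codeObj X c ≅ G' := eqToIso hc ≪≫ i
      refine ⟨⟨c, ObjectProperty.prop_of_iso _ j.symm hG'⟩, j.hom ≫ a, j.inv.app V.1 t', ?_⟩
      rw [← ht']
      change (j.inv ≫ j.hom ≫ a).app V.1 t' = _
      rw [j.inv_hom_id_assoc]
    choose c a ha using key
    let π : (∐ fun p => codeObj X (c p).1) ⟶ M := Sigma.desc a
    have hq : (∐ fun p => codeObj X (c p).1).IsQuasicoherent := prop_sigma X _ fun p => (c p).2
    refine ⟨Abelian.image π, Abelian.image.ι π, inferInstance, ?_, ?_, ?_⟩
    · have := @QCoh.isQuasicoherent_cokernel X _ _ π hq this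
      exact @QCoh.isQuasicoherent_kernel X _ _ (cokernel.π π) inferInstance this
    · let g := cokernel.π (Abelian.image.ι π)
      have hπ : π ≫ g = 0 := by
        refine (Abelian.image.fac π =≫ g).symm.trans ?_
        simp [g]
      refine Scheme.Modules.hom_ext _ _ fun V ↦ ?_
      ext s
      refine TopCat.Presheaf.section_ext
        (⟨(cokernel (Abelian.image.ι π)).presheaf, (cokernel (Abelian.image.ι π)).isSheaf⟩ :
          TopCat.Sheaf AddCommGrpCat X) V _ _ fun y hy ↦ ?_
      obtain ⟨_, ⟨(U : X.Opens), (hU : IsAffineOpen U), rfl⟩, hyU, hUV⟩ :=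
        X.isBasis_affineOpens.exists_subset_of_mem_open hy V.isOpen
      have hUV' : U ≤ V := hUV
      have k0 : ∀ t : Γ(pow G T, U), (e ≫ g).app U t = 0 := fun t => by
        obtain ⟨t', ht'⟩ := ha ⟨⟨U, hU⟩, t⟩
        rw [Scheme.Modules.Hom.comp_app, ConcreteCategory.comp_apply, ← ht']
        have h1 : a ⟨⟨U, hU⟩, t⟩ ≫ g = 0 := by
          have := Sigma.ι (fun p => codeObj X (c p).1) ⟨⟨U, hU⟩, t⟩ ≫= hπ
          rwa [Sigma.ι_desc_assoc, comp_zero] at this
        have := congr($(h1).app U t')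
        simpa using this
      have hn := NatTrans.naturality_apply (e ≫ g).mapPresheaf (homOfLE hUV').op s
      refine (((cokernel (Abelian.image.ι π)).presheaf.germ_res_apply (homOfLE hUV') y hyU
        ((e ≫ g).app V s)).symm).trans ?_
      refine (congrArg _ (hn.symm.trans (k0 _))).trans ?_
      simp
    · refine ⟨Sigma.desc fun q => if hq : c ⟨q.1, q.2.1⟩ = q.2.2.1
          then q.2.2.2 ≫ eqToHom (by rw [hq]) ≫ Sigma.ι (fun p => codeObj X (c p).1) ⟨q.1, q.2.1⟩ ≫
            Abelian.factorThruImage π else 0, Preadditive.epi_of_cancel_zero _ fun g hg => ?_⟩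
      rw [← cancel_epi (Abelian.factorThruImage π), comp_zero]
      refine Sigma.hom_ext _ _ fun p => ?_
      have := epi_desc_homs hG (codeObj X (c p).1)
      rw [← cancel_epi (Sigma.desc fun h : G ⟶ codeObj X (c p).1 => h), comp_zero, comp_zero]
      refine Sigma.hom_ext _ _ fun h => ?_
      have h' := Sigma.ι (fun _ : qbd X G T => G) ⟨p.1, p.2, c p, h⟩ ≫= hg
      rw [Sigma.ι_desc_assoc, dif_pos rfl, comp_zero] at h'
      rw [Sigma.ι_desc_assoc, comp_zero]
      simpa using h'

end Groth.Agent.QCohD
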