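/-
`D_QCoh` of a scheme: triangulated, closed under coproducts, with a perfect family.
-/
import Groth.Agent.QCohD.Brown
import Groth.Agent.QCohD.Factor
import Groth.Agent.QCohD.Small
import Groth.Agent.CohDerLib.QC.HomBound
import Groth.Agent.CohDerLib.QC.PerfBound
import Groth.Agent.S1040
import Mathlib.Algebra.Homology.DerivedCategory.HomologySequence
import Mathlib.CategoryTheory.Triangulated.Subcategory

set_option backward.isDefEq.respectTransparency.types false

universe u

open CategoryTheory CategoryTheory.Limits ZeroObject AlgebraicGeometry DerivedCategory Pretriangulated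
open Groth.Agent.DHA Groth.Agent.DHA.KInj Groth.Agent.CohDerLib.QC

attribute [local instance] HasDerivedCategory.standard

namespace Groth.Agent.QCohD

variable {X : Scheme.{u}}

lemma qcoh_middle {A B C : X.Modules} {δ₀ : A ⟶ B} {H₂ : X.Modules} {f : B ⟶ H₂} {g : H₂ ⟶ C}
    {E : X.Modules} {δ₁ : C ⟶ E} (w₁ : δ₀ ≫ f = 0) (w₂ : f ≫ g = 0) (w₃ : g ≫ δ₁ = 0)
    (e₁ : (ShortComplex.mk _ _ w₁).Exact) (e₂ : (ShortComplex.mk _ _ w₂).Exact)
    (e₃ : (ShortComplex.mk _ _ w₃).Exact)
    (hA : A.IsQuasicoherent) (hB : B.IsQuasicoherent) (hC : C.IsQuasicoherent) (hE : E.IsQuasicoherent) :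
    H₂.IsQuasicoherent := by
  let d := cokernel.desc δ₀ f w₁
  let l := kernel.lift δ₁ g w₃
  have hdg : d ≫ g = 0 := by rw [← cancel_epi (cokernel.π δ₀)]; simp [d, w₂]
  have hdl : d ≫ l = 0 := by
    rw [← cancel_mono (kernel.ι δ₁), Category.assoc, zero_comp]
    simp [l, hdg]
  have h1 : (ShortComplex.mk d g hdg).Exact :=
    (ShortComplex.exact_iff_of_epi_of_isIso_of_mono
      (S₁ := ShortComplex.mk _ _ w₂) (S₂ := ShortComplex.mk d g hdg)
      { τ₁ := cokernel.π δ₀, τ₂ := 𝟙 _, τ₃ := 𝟙 _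
        comm₁₂ := by simp [d], comm₂₃ := by simp }).1 e₂
  have h2 : (ShortComplex.mk d l hdl).Exact :=
    (ShortComplex.exact_iff_of_epi_of_isIso_of_mono
      (S₁ := ShortComplex.mk d l hdl) (S₂ := ShortComplex.mk d g hdg)
      { τ₁ := 𝟙 _, τ₂ := 𝟙 _, τ₃ := kernel.ι δ₁
        comm₁₂ := by simp, comm₂₃ := by simp [l] }).2 h1
  have : Mono d := e₁.mono_cokernelDesc
  have : Epi l := e₃.epi_kernelLift
  have : (cokernel δ₀).IsQuasicoherent := @QCoh.isQuasicoherent_cokernel X _ _ δ₀ hA hB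
  have : (kernel δ₁).IsQuasicoherent := @QCoh.isQuasicoherent_kernel X _ _ δ₁ hC hE
  exact @QCoh.isQuasicoherent_X₂ X (ShortComplex.mk d l hdl)
    (ShortComplex.ShortExact.mk' h2 ‹_› ‹_›) ‹_› ‹_›

instance instIsClosedUnderIso : (DCoh.IsQCohD (X := X)).IsClosedUnderIsomorphisms where
  of_iso e h := isQCohD_iso e h

instance instIsTriangulated : (DCoh.IsQCohD (X := X)).IsTriangulated where
  exists_zero := ⟨0, isZero_zero _, fun i =>
    qcoh_of_isZero ((homologyFunctor X.Modules i).map_isZero (isZero_zero _))⟩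
  isStableUnderShiftBy n := { le_shift := fun K hK => isQCohD_shift hK n }
  toIsTriangulatedClosed₂ := .mk' fun T hT h₁ h₃ n =>
    qcoh_middle (HomologySequence.δ_comp T hT (n - 1) n (by omega)) _
      (HomologySequence.comp_δ T hT n (n + 1) rfl)
      (HomologySequence.exact₁ T hT (n - 1) n (by omega)) (HomologySequence.exact₂ T hT n)
      (HomologySequence.exact₃ T hT n (n + 1) rfl) (h₃ _) (h₁ _) (h₃ _) (h₁ _)

instance instClosedCoproducts (J : Type u) :
    (DCoh.IsQCohD (X := X)).IsClosedUnderColimitsOfShape (Discrete J) :=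
  .mk' (by
    rintro _ ⟨F, hF⟩
    have := hasCoproducts_derived'.{u + 1} (A := X.Modules)
    exact isQCohD_iso (HasColimit.isoOfNatIso Discrete.natIsoFunctor.symm)
      (S1040.result X (fun j => F.obj ⟨j⟩) fun j => hF _))

noncomputable instance instHasCoproductsD : HasCoproducts.{u} (DCoh.D X) := hasCoproducts_derived'

noncomputable instance instHasCoproductsDNat : HasColimitsOfShape (Discrete ℕ) (DCoh.D X) :=
  hasCoproducts_derived_nat'

instance instClosedCoproductsNat :
    (DCoh.IsQCohD (X := X)).IsClosedUnderColimitsOfShape (Discrete ℕ) :=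
  ObjectProperty.IsClosedUnderColimitsOfShape.mk' (by
    rintro _ ⟨F, hF⟩
    let e : Discrete (ULift.{u} ℕ) ≌ Discrete ℕ := Discrete.equivalence Equiv.ulift
    exact isQCohD_iso (HasColimit.isoOfEquivalence e (Iso.refl _))
      ((DCoh.IsQCohD (X := X)).prop_colimit (e.functor ⋙ F) fun j => hF _))

noncomputable instance instHasCoproductsDQ : HasCoproducts.{u} (DCoh.DQCoh X) := fun _ => inferInstance

noncomputable instance instHasCoproductsDQNat : HasColimitsOfShape (Discrete ℕ) (DCoh.DQCoh X) :=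
  inferInstance

instance instLocallySmallDQ : LocallySmall.{u} (DCoh.DQCoh X) where
  hom_small A B :=
    have : Small.{u} (A.obj ⟶ B.obj) := inferInstance
    small_of_injective (f := fun φ : A ⟶ B => φ.hom) fun _ _ h => ObjectProperty.hom_ext _ h

variable (X) in
/-- a separator of `X.Modules` -/
noncomputable abbrev sepG : X.Modules := separator X.Modules

variable (X) in
/-- levels of the family -/
def lv : ℕ → Type u
  | 0 => enlT (sepG X) (qbd X (sepG X)) PUnit.{u + 1}
  | k + 1 => enlT (sepG X) (qbd X (sepG X)) (sub (sepG X) (TT (sepG X) (lv k)))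

variable (X) in
/-- indices of the family -/
abbrev gι : Type u :=
  {p : Σ k, Code (pow (sepG X) (lv X k)) // ∀ m, QCohCat.isQCoh X (p.2.cx.homology m)}

lemma isQCohD_Q {K : CochainComplex X.Modules ℤ} (h : ∀ m, QCohCat.isQCoh X (K.homology m)) :
    DCoh.IsQCohD (Q.obj K) := fun m =>
  qcoh_iso ((homologyFunctorFactors X.Modules m).app K).symm (h m)

lemma qcoh_homology {K : CochainComplex X.Modules ℤ} {A : DCoh.D X} (e : Q.obj K ≅ A)
    (h : DCoh.IsQCohD A) (m : ℤ) : QCohCat.isQCoh X (K.homology m) :=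
  qcoh_iso (((homologyFunctor X.Modules m).mapIso e).symm ≪≫
    (homologyFunctorFactors X.Modules m).app K) (h m)

variable (X) in
/-- the family -/
noncomputable def gfam (i : ULift.{u + 1} (gι X)) : DCoh.DQCoh X :=
  ⟨Q.obj i.down.1.2.cx, isQCohD_Q i.down.2⟩

lemma hsep : IsSeparator (sepG X) := isSeparator_separator _

lemma exists_gfam {k : ℕ} {E : CochainComplex X.Modules ℤ} (hE : Cov (sepG X) (lv X k) E)
    (hq : ∀ m, QCohCat.isQCoh X (E.homology m)) :
    ∃ c : gι X, c.1.1 = k ∧ Nonempty (c.1.2.cx ≅ E) := by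
  choose e he using hE
  obtain ⟨c, ⟨i⟩⟩ := exists_code E e he
  exact ⟨⟨⟨k, c⟩, fun m => ObjectProperty.prop_of_iso _
    ((HomologicalComplex.homologyFunctor X.Modules _ m).mapIso i).symm (hq m)⟩, rfl, ⟨i⟩⟩

lemma cov_code (c : gι X) : Cov (sepG X) (lv X c.1.1) c.1.2.cx := fun m => ⟨cokernel.π _,
  inferInstanceAs (Epi (cokernel.π ((equivShrink (Subobject (pow (sepG X) (lv X c.1.1)))).symm (c.1.2.1 m)).arrow))⟩

theorem isPerfect_gfam : Brown.IsPerfect (Brown.shifts (gfam X)) := by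
  classical
  refine Brown.isPerfect_shifts (gfam X) (fun A hA => ?_) fun A ⟨c⟩ α => ?_
  · obtain ⟨I, r, _, _⟩ := enough_kInjective (Q.objPreimage A.obj)
    let e : Q.obj I ≅ A.obj := (asIso (Q.map r)).symm ≪≫ Q.objObjPreimageIso A.obj
    have hI : ∀ n, I.ExactAt n := fun n => exactAt_of_hom_single_eq_zero' hsep I n fun φ => by
      obtain ⟨f, hf⟩ := Q_map_surjective _ I φ
      obtain ⟨E, a, b, hE, hEq, hab⟩ :=
        exists_enlarge hsep (good X hsep) (cov_single (G := sepG X) n) f (qcoh_homology e A.property)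
      obtain ⟨c, -, ⟨i⟩⟩ := exists_gfam (k := 0) hE hEq
      have h0 := hA ⟨c⟩ 0 (ObjectProperty.homMk (Q.map (i.hom ≫ b) ≫ e.hom) ≫
        (shiftFunctorZero (DCoh.DQCoh X) ℤ).inv.app A)
      rw [Preadditive.IsIso.comp_right_eq_zero] at h0
      have h1 : Q.map (i.hom ≫ b) ≫ e.hom = 0 := congrArg (fun ψ => ψ.hom) h0
      rw [Preadditive.IsIso.comp_right_eq_zero, Functor.map_comp,
        Preadditive.IsIso.comp_left_eq_zero] at h1
      rw [← hf, ← hab, Functor.map_comp, h1, comp_zero]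
    have : QuasiIso (0 : I ⟶ 0) := quasiIso_of_acyclic_both _ hI fun n =>
      ShortComplex.exact_of_isZero_X₂ _
        ((HomologicalComplex.eval X.Modules _ n).map_isZero (isZero_zero _))
    have hz : IsZero A.obj := IsZero.of_iso
      (IsZero.of_iso (Functor.map_isZero Q (isZero_zero _)) (asIso (Q.map (0 : I ⟶ 0)))) e.symm
    exact ⟨fun B => ⟨⟨⟨0⟩, fun φ => ObjectProperty.hom_ext _ (hz.eq_of_src _ _)⟩⟩,
      fun B => ⟨⟨⟨0⟩, fun φ => ObjectProperty.hom_ext _ (hz.eq_of_tgt _ _)⟩⟩⟩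
  · let ι' := (DCoh.IsQCohD (X := X)).ι
    let cmp := PreservesCoproduct.iso ι' A
    obtain ⟨Cn, j, γ, hCn, hα⟩ := exists_small_factor_nat hsep (cov_code c) (fun n => (A n).obj)
      (ι'.map α ≫ cmp.hom)
    choose En a b hEn hEq hab using fun n => exists_enlarge hsep (good X hsep) (hCn n) (j n)
      (qcoh_homology (Q.objObjPreimageIso (A n).obj) (A n).property)
    choose cn hcn ecn using fun n => exists_gfam (k := c.1.1 + 1) (hEn n) (hEq n)
    let js : ℕ → ULift.{u + 1} (gι X) := fun n => ⟨cn n⟩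
    let β : ∀ n, gfam X (js n) ⟶ A n := fun n =>
      ObjectProperty.homMk (Q.map ((ecn n).some.hom ≫ b n) ≫ (Q.objObjPreimageIso (A n).obj).hom)
    let κ : (∐ fun n => Q.obj (Cn n)) ⟶ ι'.obj (∐ fun n => gfam X (js n)) := Sigma.desc fun n =>
      Q.map (a n ≫ (ecn n).some.inv) ≫ ι'.map (Sigma.ι (fun n => gfam X (js n)) n)
    refine ⟨js, β, ObjectProperty.homMk (γ ≫ κ), ObjectProperty.hom_ext _ ?_⟩
    change ι'.map α = (γ ≫ κ) ≫ ι'.map (Limits.Sigma.map β)
    rw [← cancel_mono cmp.hom]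
    refine hα.trans ((?_ : _ = γ ≫ κ ≫ ι'.map (Limits.Sigma.map β) ≫ cmp.hom).trans
      ((Category.assoc γ κ _).symm.trans (Category.assoc (γ ≫ κ) _ cmp.hom).symm))
    congr 1
    refine Sigma.hom_ext _ _ fun n => ?_
    have hcmp : ι'.map (Sigma.ι A n) ≫ cmp.hom = Sigma.ι (fun n => (A n).obj) n := by
      rw [← Iso.eq_comp_inv]
      exact (ι_comp_sigmaComparison ι' A n).symm
    have hn : ι'.map (Sigma.ι (fun n => gfam X (js n)) n) ≫ ι'.map (Limits.Sigma.map β) ≫ cmp.hom =
        (Q.map ((ecn n).some.hom ≫ b n) ≫ (Q.objObjPreimageIso (A n).obj).hom) ≫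
          Sigma.ι (fun n => (A n).obj) n := by
      rw [← Functor.map_comp_assoc ι', Sigma.ι_map, Functor.map_comp_assoc, hcmp]
      rfl
    rw [Sigma.ι_map, Sigma.ι_desc_assoc]
    refine Eq.trans ?_ ((Category.assoc _ _ _).trans
      (congrArg (Q.map (a n ≫ (ecn n).some.inv) ≫ ·) hn)).symm
    rw [← hab n]
    simp

end Groth.Agent.QCohD
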