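/-
Coproduct preserving exact functors out of `D_QCoh` are left adjoints.
-/
import Groth.Agent.QCohD.DQ
import Groth.Agent.CohDerLib.QC.PushSums
import Groth.Agent.KFlat.RPushTriangle

set_option backward.isDefEq.respectTransparency.types false

universe u u'

open CategoryTheory CategoryTheory.Limits AlgebraicGeometry DerivedCategory Pretriangulated

attribute [local instance] HasDerivedCategory.standard

namespace Groth.Agent.QCohD

variable {X Y : Scheme.{u}}

theorem isLeftAdjoint_DQ {D' : Type u'} [Category.{u + 1} D'] [LocallySmall.{u} D'] [Preadditive D']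
    [HasZeroObject D'] [HasShift D' ℤ] [∀ n : ℤ, (shiftFunctor D' n).Additive] [Pretriangulated D']
    (F : DCoh.DQCoh X ⥤ D') [F.Additive]
    (hF : ∀ T ∈ distTriang (DCoh.DQCoh X), ∃ δ,
      Triangle.mk (F.map T.mor₁) (F.map T.mor₂) δ ∈ distTriang D')
    [∀ J : Type u, PreservesColimitsOfShape (Discrete J) F] : F.IsLeftAdjoint :=
  Brown.isLeftAdjoint isPerfect_gfam F hF

theorem isLeftAdjoint_ι_DQ : (DCoh.IsQCohD (X := X)).ι.IsLeftAdjoint :=
  isLeftAdjoint_DQ _ fun _ hT => ⟨_, (DCoh.IsQCohD (X := X)).ι.map_distinguished _ hT⟩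

variable (f : X ⟶ Y) [QuasiCompact f] [QuasiSeparated f] [DCoh.HasRpush f]
  (h : ∀ K : DCoh.D X, DCoh.IsQCohD K → DCoh.IsQCohD ((DCoh.Rpush f).obj K))

theorem isLeftAdjoint_lift_Rpush :
    (ObjectProperty.lift DCoh.IsQCohD (ObjectProperty.ι DCoh.IsQCohD ⋙ DCoh.Rpush f)
      (fun K => h K.obj K.property)).IsLeftAdjoint := by
  let P := DCoh.IsQCohD (X := X)
  let L := ObjectProperty.lift DCoh.IsQCohD (ObjectProperty.ι DCoh.IsQCohD ⋙ DCoh.Rpush f)
    (fun K => h K.obj K.property)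
  have : (DCoh.Rpush f).Additive := KFlat.RPushTriangle.additive_Rpush f
  have : L.Additive := ⟨fun {_ _} φ ψ => ObjectProperty.hom_ext _ ((DCoh.Rpush f).map_add (f := φ.hom) (g := ψ.hom))⟩
  have (J : Type u) : PreservesColimitsOfShape (Discrete J) L := by
    have : PreservesColimitsOfShape (Discrete J) (P.ι ⋙ DCoh.Rpush f) := ⟨fun {K} => by
      have := CohDerLib.QC.isIso_sigmaComparison_Rpush f (fun j => P.ι.obj (K.obj ⟨j⟩))
        (fun j => (K.obj ⟨j⟩).property)
      have : PreservesColimit (Discrete.functor fun j => P.ι.obj (K.obj ⟨j⟩)) (DCoh.Rpush f) :=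
        PreservesCoproduct.of_iso_comparison _ _
      have : PreservesColimit (K ⋙ P.ι) (DCoh.Rpush f) :=
        preservesColimit_of_iso_diagram (K₁ := Discrete.functor fun j => P.ι.obj (K.obj ⟨j⟩)) _
          (Discrete.natIso fun j => Iso.refl _)
      infer_instance⟩
    have : PreservesColimitsOfShape (Discrete J) (L ⋙ (DCoh.IsQCohD (X := Y)).ι) :=
      preservesColimitsOfShape_of_natIso (ObjectProperty.liftCompιIso _ _ _).symm
    exact preservesColimitsOfShape_of_reflects_of_preserves L (DCoh.IsQCohD (X := Y)).ι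
  refine isLeftAdjoint_DQ L fun T hT => ?_
  obtain ⟨δ, hδ⟩ := KFlat.RPushTriangle.distinguished_Rpush f (P.ι.mapTriangle.obj T) hT
  let δ' : L.obj T.obj₃ ⟶ (L.obj T.obj₁)⟦(1 : ℤ)⟧ :=
    ObjectProperty.homMk (δ ≫ ((DCoh.IsQCohD (X := Y)).ι.commShiftIso (1 : ℤ)).inv.app (L.obj T.obj₁))
  refine ⟨δ', isomorphic_distinguished _ hδ _ (Triangle.isoMk _ _ (Iso.refl _) (Iso.refl _) (Iso.refl _) ?_ ?_ ?_)⟩
  · exact (Category.comp_id _).trans (Category.id_comp _).symm
  · exact (Category.comp_id _).trans (Category.id_comp _).symm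
  · refine ((congrArg _ (CategoryTheory.Functor.map_id _ _)).trans (Category.comp_id _)).trans ?_
    refine Eq.trans ?_ (Category.id_comp _).symm
    change (δ ≫ ((DCoh.IsQCohD (X := Y)).ι.commShiftIso (1 : ℤ)).inv.app (L.obj T.obj₁)) ≫
      ((DCoh.IsQCohD (X := Y)).ι.commShiftIso (1 : ℤ)).hom.app (L.obj T.obj₁) = δ
    rw [Category.assoc]
    erw [Iso.inv_hom_id_app, Category.comp_id]

end Groth.Agent.QCohD
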